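import Mathlib

open TensorProduct

universe u

namespace Helper5.FlatDesc

/-- If `C` is faithfully flat over `B` and flat over `A`, then `B` is flat over `A`. -/
lemma flat_of_faithfullyFlat_of_flat (A B C : Type u) [CommRing A] [CommRing B] [CommRing C]
    [Algebra A B] [Algebra B C] [Algebra A C] [IsScalarTower A B C]
    [Module.FaithfullyFlat B C] [Module.Flat A C] : Module.Flat A B := by
  rw [Module.Flat.iff_lTensor_preserves_injective_linearMap]
  intro N N' _ _ _ _ f hf
  -- base change `f.lTensor B` to `C` over `B`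
  let fB : B ⊗[A] N →ₗ[B] B ⊗[A] N' := f.baseChange B
  have hfB : (fB : B ⊗[A] N → B ⊗[A] N') = f.lTensor B := by
    exact LinearMap.baseChange_eq_ltensor f
  rw [← hfB]
  rw [← Module.FaithfullyFlat.lTensor_injective_iff_injective B C fB]
  -- identify `C ⊗[B] (B ⊗[A] N)` with `C ⊗[A] N`
  let e : C ⊗[B] (B ⊗[A] N) ≃ₗ[B] C ⊗[A] N := AlgebraTensorModule.cancelBaseChange A B B C N
  let e' : C ⊗[B] (B ⊗[A] N') ≃ₗ[B] C ⊗[A] N' := AlgebraTensorModule.cancelBaseChange A B B C N'
  have hcomm : ∀ x, e' (fB.lTensor C x) = f.lTensor C (e x) := by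
    intro x
    induction x using TensorProduct.induction_on with
    | zero => simp
    | add x y hx hy => simp only [map_add, hx, hy]
    | tmul c y =>
      induction y using TensorProduct.induction_on with
      | zero => simp
      | add x y hx hy => simp only [tmul_add, map_add, hx, hy]
      | tmul b n => simp [e, e', fB]
  have hinj : Function.Injective (f.lTensor C) := Module.Flat.lTensor_preserves_injective_linearMap f hf
  intro x y hxy
  apply e.injective
  apply hinj
  rw [← hcomm, ← hcomm, hxy]


open AlgebraicGeometry CategoryTheory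

/-- ring-hom form -/
lemma ringHom_flat_of_comp {A B C : Type u} [CommRing A] [CommRing B] [CommRing C]
    (φ : A →+* B) (ψ : B →+* C) [IsLocalRing B] [IsLocalRing C] [IsLocalHom ψ]
    (hψ : ψ.Flat) (hc : (ψ.comp φ).Flat) : φ.Flat := by
  let _ := φ.toAlgebra
  let _ := ψ.toAlgebra
  let _ := (ψ.comp φ).toAlgebra
  have : IsScalarTower A B C := IsScalarTower.of_algebraMap_eq (fun _ => rfl)
  have : Module.Flat B C := hψ
  have : Module.Flat A C := hc
  have : IsLocalHom (algebraMap B C) := ‹IsLocalHom ψ›
  have : Module.FaithfullyFlat B C := Module.FaithfullyFlat.of_flat_of_isLocalHom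
  exact flat_of_faithfullyFlat_of_flat A B C

theorem flat_of_flat_comp_of_surjective_flat {X' X Y : Scheme.{u}} (f : X' ⟶ X) (g : X ⟶ Y) [Flat f]
    [Surjective f] [Flat (f ≫ g)] : Flat g := by
  rw [Flat.iff_flat_stalkMap]
  intro x
  obtain ⟨x', rfl⟩ := f.surjective x
  have h1 : ((f ≫ g).stalkMap x').hom.Flat := Flat.stalkMap (f ≫ g) x'
  have h2 : (f.stalkMap x').hom.Flat := Flat.stalkMap f x'
  rw [Scheme.Hom.stalkMap_comp] at h1
  exact ringHom_flat_of_comp (g.stalkMap (f.base x')).hom (f.stalkMap x').hom h2 h1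


/-- If `A → B → C → D` with `D` faithfully flat over `B` and `C` flat over `A`, then `B` is flat over `A`. -/
lemma flat_of_factor_faithfullyFlat (A B C D : Type u) [CommRing A] [CommRing B] [CommRing C]
    [CommRing D] [Algebra A B] [Algebra B C] [Algebra A C] [IsScalarTower A B C]
    [Algebra C D] [Algebra B D] [IsScalarTower B C D] [Algebra A D] [IsScalarTower A B D]
    [Module.FaithfullyFlat B D] [Module.Flat A C] : Module.Flat A B := by
  have : IsScalarTower A C D := IsScalarTower.of_algebraMap_eq (fun a => by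
    rw [IsScalarTower.algebraMap_apply A B D, IsScalarTower.algebraMap_apply B C D,
      ← IsScalarTower.algebraMap_apply A B C])
  rw [Module.Flat.iff_lTensor_preserves_injective_linearMap]
  intro N N' _ _ _ _ f hf
  -- the map `B ⊗ N → C ⊗ N` is injective
  have hι : ∀ (N : Type u) [AddCommGroup N] [Module A N],
      Function.Injective (((IsScalarTower.toAlgHom A B C).toLinearMap).rTensor N) := by
    intro N _ _
    have h1 : Function.Injective (TensorProduct.mk B D (B ⊗[A] N) 1) :=
      Module.FaithfullyFlat.tensorProduct_mk_injective (A := B) (B := D) (B ⊗[A] N)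
    let e : D ⊗[B] (B ⊗[A] N) ≃ₗ[B] D ⊗[A] N := AlgebraTensorModule.cancelBaseChange A B B D N
    have h2 : ∀ x : B ⊗[A] N, e (TensorProduct.mk B D (B ⊗[A] N) 1 x) =
        ((IsScalarTower.toAlgHom A C D).toLinearMap).rTensor N
          (((IsScalarTower.toAlgHom A B C).toLinearMap).rTensor N x) := by
      intro x
      induction x using TensorProduct.induction_on with
      | zero => simp
      | add x y hx hy => simp only [map_add, hx, hy]
      | tmul b n =>
        simp [e, Algebra.smul_def, IsScalarTower.algebraMap_apply B C D]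
    intro x y hxy
    apply h1
    apply e.injective
    rw [h2, h2, hxy]
  have hinj : Function.Injective (f.lTensor C) := Module.Flat.lTensor_preserves_injective_linearMap f hf
  have hcomm : ∀ x : B ⊗[A] N, ((IsScalarTower.toAlgHom A B C).toLinearMap).rTensor N' (f.lTensor B x) =
      f.lTensor C (((IsScalarTower.toAlgHom A B C).toLinearMap).rTensor N x) := by
    intro x
    induction x using TensorProduct.induction_on with
    | zero => simp
    | add x y hx hy => simp only [map_add, hx, hy]
    | tmul b n => simp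
  intro x y hxy
  apply hι N
  apply hinj
  rw [← hcomm, ← hcomm, hxy]


lemma ringHom_flat_of_factor {A B C D : Type u} [CommRing A] [CommRing B] [CommRing C] [CommRing D]
    (φ : A →+* B) (ψ : B →+* C) (χ : C →+* D) [IsLocalRing B] [IsLocalRing D]
    [IsLocalHom (χ.comp ψ)]
    (h1 : (ψ.comp φ).Flat) (h2 : (χ.comp ψ).Flat) : φ.Flat := by
  let _ := φ.toAlgebra
  let _ := ψ.toAlgebra
  let _ := χ.toAlgebra
  let _ := (ψ.comp φ).toAlgebra
  let _ := (χ.comp ψ).toAlgebra
  let _ := ((χ.comp ψ).comp φ).toAlgebra
  have : IsScalarTower A B C := IsScalarTower.of_algebraMap_eq (fun _ => rfl)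
  have : IsScalarTower B C D := IsScalarTower.of_algebraMap_eq (fun _ => rfl)
  have : IsScalarTower A B D := IsScalarTower.of_algebraMap_eq (fun _ => rfl)
  have : Module.Flat A C := h1
  have : Module.Flat B D := h2
  have : IsLocalHom (algebraMap B D) := ‹IsLocalHom (χ.comp ψ)›
  have : Module.FaithfullyFlat B D := Module.FaithfullyFlat.of_flat_of_isLocalHom
  exact flat_of_factor_faithfullyFlat A B C D

theorem flat_of_flat_comp_refined {X Y Z Y' : Scheme.{u}} (f : X ⟶ Y) (q : Y ⟶ Z) (g : Y' ⟶ Y) [Flat g] [Surjective g]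
    [LocallyOfFinitePresentation g] (l : Y' ⟶ X) (hl : l ≫ f = g) [Flat (f ≫ q)] : Flat q := by
  rw [Flat.iff_flat_stalkMap]
  intro y
  obtain ⟨y', rfl⟩ := g.surjective y
  subst hl
  have h1 : ((f ≫ q).stalkMap (l.base y')).hom.Flat := Flat.stalkMap _ _
  have h2 : ((l ≫ f).stalkMap y').hom.Flat := Flat.stalkMap _ _
  rw [Scheme.Hom.stalkMap_comp] at h1 h2
  have : IsLocalHom ((l.stalkMap y').hom.comp (f.stalkMap (l.base y')).hom) :=
    RingHom.isLocalHom_comp _ _
  exact @ringHom_flat_of_factor _ _ _ _ _ _ _ _ (q.stalkMap _).hom (f.stalkMap (l.base y')).hom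
    (l.stalkMap y').hom _ _ this h1 h2

end Helper5.FlatDesc
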